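import Cfsg.Agent.MonU.W1

/-! The twelve weights of `3^6 : 2 M12` on a space of dimension 24. -/

set_option autoImplicit false
set_option maxRecDepth 100000
set_option linter.unusedSectionVars false

namespace CF.MonU

open Matrix Module

def lam : Fin 12 → A3 := ![![0, 0, 0, 0, 2, 0],
  ![0, 0, 0, 2, 0, 0],
  ![0, 0, 0, 1, 1, 1],
  ![0, 0, 2, 1, 2, 0],
  ![0, 2, 0, 1, 1, 2],
  ![2, 0, 1, 2, 1, 1],
  ![0, 1, 2, 0, 0, 2],
  ![1, 2, 1, 2, 0, 2],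
  ![2, 1, 1, 0, 0, 0],
  ![1, 1, 0, 0, 0, 0],
  ![1, 0, 0, 0, 0, 0],
  ![2, 2, 2, 0, 2, 1]]
def bb : Fin 12 → A3 := ![![0, 0, 0, 0, 2, 0],
  ![0, 0, 0, 2, 0, 0],
  ![0, 0, 0, 0, 1, 0],
  ![0, 0, 0, 0, 2, 0],
  ![0, 0, 0, 0, 1, 0],
  ![0, 0, 0, 0, 1, 0],
  ![0, 0, 2, 0, 0, 0],
  ![0, 0, 0, 2, 0, 0],
  ![0, 0, 1, 0, 0, 0],
  ![0, 1, 0, 0, 0, 0],
  ![1, 0, 0, 0, 0, 0],
  ![0, 0, 0, 0, 2, 0]]
def M1 : Matrix (Fin 6) (Fin 6) (ZMod 3) :=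
  !![1, 2, 2, 0, 0, 0; 0, 2, 1, 0, 0, 0; 1, 0, 1, 0, 1, 0; 2, 1, 2, 1, 0, 1; 1, 0, 2, 1, 2, 2; 0, 2, 0, 0, 2, 0]
def M2 : Matrix (Fin 6) (Fin 6) (ZMod 3) :=
  !![1, 0, 2, 1, 2, 2; 1, 2, 0, 2, 0, 2; 1, 2, 2, 2, 2, 0; 0, 0, 1, 2, 1, 0; 2, 1, 2, 1, 0, 1; 1, 2, 0, 0, 1, 2]
def N1 : Matrix (Fin 6) (Fin 6) (ZMod 3) :=
  !![0, 2, 1, 0, 0, 1; 1, 2, 2, 0, 0, 2; 1, 0, 2, 0, 0, 2; 0, 1, 0, 2, 2, 1; 2, 1, 1, 0, 0, 0; 0, 2, 1, 2, 1, 0]
def N2 : Matrix (Fin 6) (Fin 6) (ZMod 3) :=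
  !![1, 1, 1, 0, 1, 2; 1, 0, 0, 0, 2, 1; 0, 2, 0, 0, 2, 0; 0, 2, 0, 1, 1, 2; 0, 0, 0, 2, 2, 2; 0, 1, 1, 2, 1, 2]
def s1 : Fin 12 → Fin 12 := ![5, 7, 3, 6, 1, 11, 10, 2, 0, 9, 8, 4]
def s2 : Fin 12 → Fin 12 := ![7, 3, 0, 2, 1, 6, 8, 4, 9, 11, 5, 10]
def lA : Fin 13 → A3 := ![![0, 0, 0, 0, 0, 1],
  ![0, 2, 0, 0, 2, 0],
  ![2, 1, 0, 2, 1, 1],
  ![1, 1, 2, 0, 1, 1],
  ![1, 0, 1, 1, 0, 2],
  ![1, 1, 2, 1, 2, 1],
  ![1, 1, 2, 0, 2, 2],
  ![2, 2, 0, 2, 1, 1],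
  ![1, 0, 0, 0, 1, 1],
  ![2, 1, 1, 1, 1, 2],
  ![0, 2, 1, 2, 1, 0],
  ![1, 2, 0, 0, 1, 2],
  ![0, 0, 1, 0, 0, 0]]
def lB : Fin 13 → A3 := ![![0, 0, 0, 0, 1, 1],
  ![1, 2, 2, 1, 1, 2],
  ![0, 2, 1, 2, 2, 0],
  ![1, 0, 2, 1, 2, 0],
  ![1, 0, 1, 0, 0, 2],
  ![2, 0, 0, 0, 2, 0],
  ![1, 1, 2, 2, 1, 1],
  ![2, 2, 2, 0, 0, 1],
  ![1, 1, 2, 0, 1, 0],
  ![1, 1, 1, 1, 1, 2],
  ![2, 0, 2, 2, 1, 0],
  ![0, 0, 2, 1, 1, 0],
  ![0, 1, 0, 0, 0, 2]]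
def tbl : ℕ := 0x63a4e849ce4314e851cc8324c7495473fd082992a2fd0649ce53a529220c64a529420e8414a8428e5311084210842525520e6389043a0c9414e5520294194a49927428e749d284a0c939d02124e7420ff18d224290a39d2922087398df421043a4e71a48a39ce7424e74109f3992a3190638d0819903118a6319083a4ca31cc93a4e71a4a8425254a0c9f9d07408c9295272952922507418a739d27494e7494e6520e8418e447d28324e741949325051a0c9418c632105198c9fa0c849c873a109420e941d08414c6524e93a0e539ce4520e63a3e8411064a4e941d09288e649888410c85192931ce721cc7f9ce9420e9320a829ce7494aa420c522c6039d2539cca4248549ce7414e8328e83a0e5417e741ce8219074050821d2839ce6218874a1093a5073fca832909524c6324c6021084a0a84210a4206531ca9494e82a907428e731cc7fa4c931cc8214e7498c939487420e82a10532547420a83a0a8499063fca8315260a106404c3520ff31ca8418e84248641909398c53a0e81a4e7419094a4c639d031a1074990732148320c9328e921be6314e641cc54294749d024190821d054fce7390c541ce749868298e8420a931d45f9be8494a7224e947ce749cff3191f47fff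

/-- the distance to the chosen weights -/
def dep (μ : A3) : ℕ := (tbl >>> (5 * ((μ 0).val + 3 * ((μ 1).val + 3 * ((μ 2).val + 3 * ((μ 3).val +
  3 * ((μ 4).val + 3 * (μ 5).val))))))) % 32

theorem all3 {P : A3 → Prop} (h : ∀ a b c d e f, P ![a, b, c, d, e, f]) (μ : A3) : P μ := by
  convert h (μ 0) (μ 1) (μ 2) (μ 3) (μ 4) (μ 5)
  funext i
  fin_cases i <;> rfl

theorem dep_lt : ∀ μ, dep μ < 31 → μ = lA 0 ∨ μ = lB 0 ∨ dep (μ ᵥ* M1) < dep μ ∨ dep (μ ᵥ* M2) < dep μ :=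
  all3 (by decide +kernel)

theorem dep_ge : ∀ μ, dep μ < 31 ∨ μ = 0 ∨ ∃ j, μ = lam j ∨ -μ = lam j := all3 (by decide +kernel)

/-- a separating element -/
def Sep (μ ν : A3) (f : ZMod 3) : Prop :=
  ∃ a b c d e, μ ⬝ᵥ ![a, b, c, d, e, f] = 0 ∧ ν ⬝ᵥ ![a, b, c, d, e, f] ≠ 0

instance (μ ν : A3) (f : ZMod 3) : Decidable (Sep μ ν f) := by unfold Sep; infer_instance

theorem Sep.ex {μ ν : A3} (h : ∃ f, Sep μ ν f) : ∃ a, μ ⬝ᵥ a = 0 ∧ ν ⬝ᵥ a ≠ 0 :=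
  let ⟨_, _, _, _, _, _, h⟩ := h; ⟨_, h⟩

theorem sepA : ∀ j l, l ≠ j → ∃ f, Sep (lA l) (lA j) f := by decide +kernel
theorem sepB : ∀ j l, l ≠ j → ∃ f, Sep (lB l) (lB j) f := by decide +kernel
theorem sepL : ∀ j l, l ≠ j → Sep (lam l) (lam j) 0 := by decide +kernel
theorem parA : ∀ j, j = 0 ∨ ∃ l < j, lA j = lA l ᵥ* M1 ∨ lA j = lA l ᵥ* M2 := by decide +kernel
theorem parB : ∀ j, j = 0 ∨ ∃ l < j, lB j = lB l ᵥ* M1 ∨ lB j = lB l ᵥ* M2 := by decide +kernel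
theorem lam_bb : ∀ j, lam j ⬝ᵥ bb j = 1 ∧ bb j 5 = 0 := by decide +kernel
theorem lam_M1 : ∀ j, lam j ᵥ* M1 = lam (s1 j) ∨ -(lam j ᵥ* M1) = lam (s1 j) := by decide +kernel
theorem lam_M2 : ∀ j, lam j ᵥ* M2 = lam (s2 j) ∨ -(lam j ᵥ* M2) = lam (s2 j) := by decide +kernel
theorem s_trans : ∀ j l, ∃ n < 11, l = s1^[n] j ∨ l = s2 (s1^[n] j) ∨ l = s1^[n] (s2 j) := by
  decide +kernel
theorem MN1 : M1 * N1 = 1 := by decide +kernel
theorem MN2 : M2 * N2 = 1 := by decide +kernel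

variable {S V V' : Type*} [Group S] [AddCommGroup V] [Module (ZMod 2) V] [DistribMulAction S V]
  [AddCommGroup V'] [Module (ZMod 2) V'] [DistribMulAction S V']

/-- the relations in `3^6 : 2 M12` -/
structure Dt (ε : Multiplicative A3 →* S) (i k1 k2 : S) : Prop where
  ii : i * i = 1
  ie : ∀ a, ee ε a * i = i * ee ε ((-1 : Matrix (Fin 6) (Fin 6) (ZMod 3)) *ᵥ a)
  e1 : ∀ a, ee ε a * k1 = k1 * ee ε (M1 *ᵥ a)
  e2 : ∀ a, ee ε a * k2 = k2 * ee ε (M2 *ᵥ a)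
  c1 : i * k1 = k1 * i
  c2 : i * k2 = k2 * i

/-- a frame -/
def Fr (ε : Multiplicative A3 →* S) (i : S) (u : Fin 12 → V) : Prop :=
  ∀ j, u j ∈ Wt ε V (lam j) ∧ u j ≠ 0 ∧ i • u j = u j

variable {ε : Multiplicative A3 →* S} {i k1 k2 : S}

theorem Wt.of_or {μ ν : A3} {v : V} (h : v ∈ Wt ε V μ) (e : μ = ν ∨ -μ = ν) : v ∈ Wt ε V ν :=
  e.elim (· ▸ h) (· ▸ Wt.neg h)

theorem Dt.exists_fr (D : Dt ε i k1 k2) (hV : finrank (ZMod 2) V = 24)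
    (nt : ∃ a, ∃ v : V, ee ε a • v ≠ v) : ∃ u : Fin 12 → V, Fr ε i u := by
  have : Module.Finite (ZMod 2) V := finite_of_finrank_pos (by omega)
  let Ω : A3 → Prop := fun μ => ∃ v ∈ Wt ε V μ, v ≠ 0
  have h1 : ∀ μ, Ω μ → Ω (μ ᵥ* M1) := fun μ ⟨v, a, b⟩ =>
    ⟨_, Wt.conj a D.e1, (smul_ne_zero_iff_ne k1).2 b⟩
  have h2 : ∀ μ, Ω μ → Ω (μ ᵥ* M2) := fun μ ⟨v, a, b⟩ =>
    ⟨_, Wt.conj a D.e2, (smul_ne_zero_iff_ne k2).2 b⟩
  have h3 : ∀ l : Fin 13 → A3, (∀ j m, m ≠ j → ∃ f, Sep (l m) (l j) f) →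
      (∀ j, j = 0 ∨ ∃ m < j, l j = l m ᵥ* M1 ∨ l j = l m ᵥ* M2) → ¬ Ω (l 0) := fun l sp pr h => by
    have : ∀ j, Ω (l j) := fun j => by
      induction j using WellFoundedLT.induction with
      | ind j ih =>
        rcases pr j with rfl | ⟨m, a, e | e⟩
        exacts [h, e ▸ h1 _ (ih m a), e ▸ h2 _ (ih m a)]
    choose u hu h0 using this
    have : ∀ j, ∃ b, l j ⬝ᵥ b ≠ 0 := fun j => by
      obtain ⟨m, hm⟩ := exists_ne j
      exact (Sep.ex (sp j m hm)).imp fun _ h => h.2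
    choose b hb using this
    have := (fam_indep (fun j m h => Sep.ex (sp j m h)) hb hu h0).fintype_card_le_finrank
    simp [hV] at this
  have h4 : ∀ n μ, dep μ = n → n < 31 → ¬ Ω μ := fun n => by
    induction n using Nat.strong_induction_on with
    | _ n ih =>
      rintro μ rfl hn h
      rcases dep_lt μ hn with rfl | rfl | e | e
      exacts [h3 _ sepA parA h, h3 _ sepB parB h, ih _ e _ rfl (by omega) (h1 _ h),
        ih _ e _ rfl (by omega) (h2 _ h)]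
  obtain ⟨j, hj⟩ : ∃ j, Ω (lam j) := by
    by_contra! hn
    obtain ⟨a, v, h⟩ := nt
    refine h (((iSup_le fun μ w hw => ?_ : ⨆ μ, Wt ε V μ ≤ Wt ε V 0) (mem_iSup_Wt v) a).1
      (zero_dotProduct a))
    by_contra k
    have w0 : w ≠ 0 := fun e => k (e ▸ zero_mem _)
    rcases dep_ge μ with e | rfl | ⟨j, e⟩
    exacts [h4 _ _ rfl e ⟨w, hw, w0⟩, k hw, hn j ⟨w, Wt.of_or hw e, w0⟩]
  have g1 : ∀ j, Ω (lam j) → Ω (lam (s1 j)) := fun j h =>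
    (h1 _ h).imp fun v k => ⟨Wt.of_or k.1 (lam_M1 j), k.2⟩
  have g2 : ∀ j, Ω (lam j) → Ω (lam (s2 j)) := fun j h =>
    (h2 _ h).imp fun v k => ⟨Wt.of_or k.1 (lam_M2 j), k.2⟩
  have g3 : ∀ n j, Ω (lam j) → Ω (lam (s1^[n] j)) := fun n => by
    induction n with
    | zero => exact fun _ h => h
    | succ n ih => exact fun j h => ih _ (g1 _ h)
  have : ∀ l, ∃ v, v ∈ Wt ε V (lam l) ∧ v ≠ 0 ∧ i • v = v := fun l => by
    obtain ⟨v, a, b⟩ : Ω (lam l) := by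
      obtain ⟨n, -, e | e | e⟩ := s_trans j l <;> rw [e]
      exacts [g3 _ _ hj, g2 _ (g3 _ _ hj), g3 _ _ (g2 _ hj)]
    by_cases c : i • v + v = 0
    · exact ⟨v, a, b, eq_of_add2 c⟩
    · exact ⟨_, add_mem (Wt.of_or (Wt.conj a D.ie) (.inr (by rw [vecMul_neg, vecMul_one, neg_neg]))) a, c, by
        rw [smul_add, ← mul_smul, D.ii, one_smul, add_comm]⟩
  choose u hu using this
  exact ⟨u, hu⟩

theorem Fr.indep {u : Fin 12 → V} (h : Fr ε i u) : LinearIndependent (ZMod 2) (fam ε bb u) :=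
  fam_indep (μ := lam) (fun j l k => Sep.ex ⟨0, sepL j l k⟩)
    (fun j => by rw [(lam_bb j).1]; decide) (fun j => (h j).1) fun j => (h j).2.1

/-- the basis given by a frame -/
noncomputable def Fr.bas {u : Fin 12 → V} (h : Fr ε i u) (hV : finrank (ZMod 2) V = 24) :
    Basis (Fin 12 ⊕ Fin 12) (ZMod 2) V :=
  basisOfLinearIndependentOfCardEqFinrank h.indep (by simp [hV])

theorem Fr.bas_apply {u : Fin 12 → V} (h : Fr ε i u) (hV : finrank (ZMod 2) V = 24) :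
    ⇑(h.bas hV) = fam ε bb u := coe_basisOfLinearIndependentOfCardEqFinrank _ _

theorem Dt.uniq (D : Dt ε i k1 k2) {u : Fin 12 → V} (h : Fr ε i u) (hV : finrank (ZMod 2) V = 24)
    {j : Fin 12} {v : V} (h1 : ∀ a, a 5 = 0 → lam j ⬝ᵥ a = 0 → ee ε a • v = v) (h2 : i • v = v)
    (h0 : v ≠ 0) : v = u j := by
  classical
  obtain ⟨c, e⟩ : ∃ c : _ → ZMod 2, ∑ x, c x • fam ε bb u x = v :=
    ⟨_, by rw [← h.bas_apply hV]; exact (h.bas hV).sum_repr v⟩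
  let w : Fin 12 → V := fun l => c (.inl l) • u l + c (.inr l) • ee ε (bb l) • u l
  have z2 : ∀ c : ZMod 2, c = 0 ∨ c = 1 := by decide
  have hw : ∀ l, w l ∈ Wt ε V (lam l) := fun l => by
    have a := (h l).1
    have b := Wt.smul a (bb l)
    rcases z2 (c (.inl l)) with e | e <;> rcases z2 (c (.inr l)) with e' | e' <;>
      simp only [w, e, e', zero_smul, one_smul] <;> refine add_mem ?_ ?_ <;>
      first | assumption | exact zero_mem _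
  replace e : ∑ l, w l = v := by rw [Finset.sum_add_distrib, ← e, Fintype.sum_sum_type]; rfl
  have k : ∀ l, l ≠ j → w l = 0 := fun l hl => by
    obtain ⟨_, _, _, _, _, a, b⟩ := sepL l j hl.symm
    refine Wt.eq_zero (hw l) b (eq_of_add2 (indep (ε := ε) (μ := lam) (j := l) (Finset.univ.erase l)
      (fun m => ee ε _ • w m + w m) (fun m => add_mem (Wt.smul (hw m) _) (hw m))
      (fun m hm => Sep.ex ⟨0, sepL l m (Finset.ne_of_mem_erase hm)⟩) ?_))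
    rw [Finset.add_sum_erase _ (fun m => ee ε _ • w m + w m) (Finset.mem_univ l),
      Finset.sum_add_distrib, ← Finset.smul_sum, e, h1 _ rfl a, add_self2]
  rw [Finset.sum_eq_single j (fun l _ => k l) (by simp)] at e
  have f : i • ee ε (bb j) • u j = u j + ee ε (bb j) • u j := by
    have := D.ie (-bb j)
    rw [neg_mulVec, one_mulVec, neg_neg] at this
    rw [← mul_smul, ← this, mul_smul, (h j).2.2]
    rcases Wt.cases (h j).1 (lam_bb j).1 (-bb j) with k | k | k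
    · exact absurd k.1 (by rw [dotProduct_neg, (lam_bb j).1]; decide)
    · exact absurd k.1 (by rw [dotProduct_neg, (lam_bb j).1]; decide)
    · exact k.2
  rcases z2 (c (.inl j)) with a | a <;> rcases z2 (c (.inr j)) with b | b <;>
    simp only [w, a, b, zero_smul, one_smul, add_zero, zero_add] at e <;> subst e
  · exact absurd rfl h0
  · rw [f, add_eq_right] at h2
    exact absurd h2 (h j).2.1
  · rfl
  · rw [smul_add, f, (h j).2.2, add_right_inj, add_eq_right] at h2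
    exact absurd h2 (h j).2.1

/-- the elements that commute with a map -/
def cmm (S : Type*) [Group S] [DistribMulAction S V] [DistribMulAction S V'] (L : V → V') :
    Subgroup S where
  carrier := {s | ∀ v, L (s • v) = s • L v}
  one_mem' v := by simp
  mul_mem' h k v := by rw [mul_smul, h, k, mul_smul]
  inv_mem' {s} h v := by rw [eq_inv_smul_iff, ← h, smul_inv_smul]

theorem Dt.iso (D : Dt ε i k1 k2) (hV : finrank (ZMod 2) V = 24) (hV' : finrank (ZMod 2) V' = 24)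
    (nt : ∃ a, ∃ v : V, ee ε a • v ≠ v) (nt' : ∃ a, ∃ v : V', ee ε a • v ≠ v) :
    ∃ L : V ≃ₗ[ZMod 2] V', (∀ a, ee ε a ∈ cmm S L) ∧ i ∈ cmm S L ∧ k1 ∈ cmm S L ∧ k2 ∈ cmm S L ∧
      ∀ g, (∀ a, a 5 = 0 → g⁻¹ * ee ε a * g ∈ cmm S L) → g⁻¹ * i * g ∈ cmm S L → g ∈ cmm S L := by
  obtain ⟨u, h⟩ := D.exists_fr hV nt
  obtain ⟨u', h'⟩ := D.exists_fr hV' nt'
  let L := (h.bas hV).equiv (h'.bas hV') (.refl _)
  have hL : ∀ x, L (fam ε bb u x) = fam ε bb u' x := fun x => by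
    rw [← h.bas_apply hV, ← h'.bas_apply hV', Basis.equiv_apply]; rfl
  have h1 : ∀ a j, L (ee ε a • u j) = ee ε a • u' j := fun a j => by
    rcases Wt.cases (h j).1 (lam_bb j).1 a with k | k | k <;>
      rcases Wt.cases (h' j).1 (lam_bb j).1 a with l | l | l <;>
      first | exact absurd (k.1.symm.trans l.1) (by decide) | rw [k.2, l.2]
    exacts [hL (.inl j), hL (.inr j), by rw [map_add]; exact congrArg₂ _ (hL (.inl j)) (hL (.inr j))]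
  have h2 : ∀ s : S, (∀ j, L (s • u j) = s • u' j ∧ L (s • ee ε (bb j) • u j) = s • ee ε (bb j) • u' j) →
      s ∈ cmm S L := fun s k v => by
    refine LinearMap.congr_fun (f := L.toLinearMap ∘ₗ lin V s) (g := lin V' s ∘ₗ L.toLinearMap)
      ((h.bas hV).ext fun x => ?_) v
    change L (s • _) = s • L _
    rw [h.bas_apply, hL]
    rcases x with j | j
    exacts [(k j).1, (k j).2]
  have h3 : ∀ (s : S) (M N : Matrix _ _ _) (σ : Fin 12 → Fin 12), M * N = 1 →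
      (∀ a, ee ε a * s = s * ee ε (M *ᵥ a)) → i * s = s * i →
      (∀ j, lam j ᵥ* M = lam (σ j) ∨ -(lam j ᵥ* M) = lam (σ j)) → s ∈ cmm S L :=
    fun s M N σ e1 e2 e3 e4 => h2 s fun j => by
      have a : s • u j = u (σ j) := D.uniq h hV (fun a _ => (Wt.of_or (Wt.conj (h j).1 e2) (e4 j) a).1)
        (by rw [← mul_smul, e3, mul_smul, (h j).2.2]) ((smul_ne_zero_iff_ne s).2 (h j).2.1)
      have a' : s • u' j = u' (σ j) := D.uniq h' hV'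
        (fun a _ => (Wt.of_or (Wt.conj (h' j).1 e2) (e4 j) a).1)
        (by rw [← mul_smul, e3, mul_smul, (h' j).2.2]) ((smul_ne_zero_iff_ne s).2 (h' j).2.1)
      have b := e2 (N *ᵥ bb j)
      rw [mulVec_mulVec, e1, one_mulVec] at b
      rw [← mul_smul, ← mul_smul, ← b, mul_smul, mul_smul, a, a']
      exact ⟨hL (.inl _), h1 _ _⟩
  refine ⟨L, fun a => h2 _ fun j => ⟨h1 a j, by rw [← mul_smul, ← mul_smul, ← ee_add, h1]⟩,
    h3 i (-1) (-1) id (by simp) D.ie rfl fun j => .inr (by rw [vecMul_neg, vecMul_one, neg_neg]; rfl),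
    h3 _ _ _ _ MN1 D.e1 D.c1 lam_M1,
    h3 _ _ _ _ MN2 D.e2 D.c2 lam_M2, fun g k1 k2 => (inv_mem_iff (H := cmm S L)).1 (h2 _ fun j => ?_)⟩
  have k : ∀ x, g⁻¹ * x * g ∈ cmm S L → ∀ v, g • L (g⁻¹ • x • v) = x • g • L (g⁻¹ • v) :=
    fun x k v => by
      have := k (g⁻¹ • v)
      rw [mul_smul, smul_inv_smul, mul_smul] at this
      rw [this, mul_smul, mul_smul, smul_inv_smul]
  have a : g • L (g⁻¹ • u j) = u' j := D.uniq h' hV'
    (fun a b c => by rw [← k _ (k1 a b), ((h j).1 a).1 c]) (by rw [← k _ k2, (h j).2.2])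
    ((smul_ne_zero_iff_ne g).2 (L.map_ne_zero_iff.2 ((smul_ne_zero_iff_ne _).2 (h j).2.1)))
  exact ⟨eq_inv_smul_iff.2 a, eq_inv_smul_iff.2 (by rw [k _ (k1 _ (lam_bb j).2), a])⟩

end CF.MonU
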